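import Cfsg.Agent.Lib.Helper28.BG12b

/-!
B-G section 11 ("exceptional maximal subgroups") and Theorem 12.5: common definitions of the ladder.
-/

set_option autoImplicit false

namespace Cfsg.Agent.Lib.Helper39.BG11

open Subgroup Cfsg.Agent.Lib.Helper30

universe u

variable {G : Type u} [Group G]

/-- Hypothesis 11.1 of B-G: `M` maximal, `p ∉ σ(M)`, `A ≤ M` elementary abelian of order `p ^ 2`,
`A₀ ≤ A` of order `p` with `N_G(A₀) ≤ M`. -/
structure Hyp (M : Subgroup G) (p : ℕ) (A A₀ : Subgroup G) : Prop where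
  max : IsCoatom M
  ns : p ∉ Cfsg.sigma M
  le : A ≤ M
  ea : Cfsg.IsElementaryAbelian p A
  card : Nat.card A = p ^ 2
  le₀ : A₀ ≤ A
  card₀ : Nat.card A₀ = p
  norm₀ : normalizer (A₀ : Set G) ≤ M

/-- the consequence of the text of S1416 (B-G 12.4) that we use. -/
def T16 (G : Type u) [Group G] : Prop :=
  ∀ (M : Subgroup G) (p : ℕ) [Fact p.Prime] (A : Subgroup G), IsCoatom M → p ∉ Cfsg.sigma M → A ≤ M →
    Cfsg.IsElementaryAbelian p A → Nat.card A = p ^ 2 → ∃ A₀ : Subgroup G, Hyp M p A A₀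

/-- B-G 11.1 in "overgroup" form: for `g ∉ M` with `A ≤ M^g`, no proper subgroup containing `A` meets
both an `A`-invariant Sylow `q`-subgroup of `M_σ` and one of `M_σ^g`. -/
def NoCommon (M A : Subgroup G) : Prop :=
  ∀ g : G, g ∉ M → A ≤ Cfsg.Agent.Lib.Helper30.cj g M → ∀ (q : ℕ) [Fact q.Prime] (Q₁ Q₂ H : Subgroup G),
    IsSylowIn q Q₁ (Cfsg.sigmaCore M) → IsSylowIn q Q₂ (Cfsg.Agent.Lib.Helper30.cj g (Cfsg.sigmaCore M)) →
    A ≤ normalizer (Q₁ : Set G) → A ≤ normalizer (Q₂ : Set G) → H ≠ ⊤ → A ≤ H →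
    H ⊓ Q₁ ≠ ⊥ → H ⊓ Q₂ ≠ ⊥ → False

/-- B-G 11.2(a). -/
def TI (M A : Subgroup G) : Prop :=
  ∀ g : G, g ∉ M → A ≤ Cfsg.Agent.Lib.Helper30.cj g M → Cfsg.sigmaCore M ⊓ Cfsg.Agent.Lib.Helper30.cj g M = ⊥

/-- The results of B-G section 11 for a triple `(M, p, A)`. -/
structure Res (M : Subgroup G) (p : ℕ) (A : Subgroup G) : Prop where
  cent : centralizer (A : Set G) ≤ M
  omega : ∀ x ∈ centralizer (A : Set G), x ^ p = 1 ↔ x ∈ A
  trans : Cfsg.TransitivityHypothesis A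
  ti : TI M A
  nil : Group.IsNilpotent (Cfsg.sigmaCore M)
  comm : ∀ P : Subgroup G, IsSylowIn p P M → ∀ x ∈ P, ∀ y ∈ P, x * y = y * x
  fpf2 : ∃ A₁ A₂ : Subgroup G, A₁ ≤ A ∧ A₂ ≤ A ∧ Nat.card A₁ = p ∧ Nat.card A₂ = p ∧ A₁ ≠ A₂ ∧
      Cfsg.sigmaCore M ⊓ centralizer (A₁ : Set G) = ⊥ ∧
      Cfsg.sigmaCore M ⊓ centralizer (A₂ : Set G) = ⊥
  nnorm : ¬ normalizer (A : Set G) ≤ M

/-- section 11 for all triples. -/
def T11 (G : Type u) [Group G] : Prop :=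
  ∀ (M : Subgroup G) (p : ℕ) [Fact p.Prime] (A A₀ : Subgroup G), Hyp M p A A₀ → Res M p A

theorem Hyp.cent {M A A₀ : Subgroup G} {p : ℕ} (h : Hyp M p A A₀) : centralizer (A : Set G) ≤ M :=
  ((centralizer_le (SetLike.coe_subset_coe.mpr h.le₀)).trans
    (centralizer_le_normalizer' A₀)).trans h.norm₀

/-! ### statements of the later rungs, as `Prop`s (so that all rungs can be proved in parallel) -/

/-- `M_σ ≠ 1` (B-G 10.2(e)). -/
def SNe (G : Type u) [Group G] : Prop :=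
  ∀ M : Subgroup G, IsCoatom M → Cfsg.sigmaCore M ≠ ⊥

/-- a maximal subgroup containing `N_G(A)` has `p` in its `σ`. -/
def S5b (G : Type u) [Group G] : Prop :=
  ∀ (M : Subgroup G) (p : ℕ) [Fact p.Prime] (A A₀ L : Subgroup G), Hyp M p A A₀ → IsCoatom L →
    normalizer (A : Set G) ≤ L → p ∈ Cfsg.sigma L

/-- an `A`-invariant `r`-subgroup `R` of `M`, `r ∉ σ(M)`, with `C_R(A) = 1` centralizes `M_σ`. -/
def S7 (G : Type u) [Group G] : Prop :=
  ∀ (M : Subgroup G) (p : ℕ) [Fact p.Prime] (A A₀ : Subgroup G) (r : ℕ) [Fact r.Prime] (R : Subgroup G),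
    Hyp M p A A₀ → r ∉ Cfsg.sigma M → r ≠ p → R ≤ M → IsPGroup r R → A ≤ normalizer (R : Set G) →
    R ⊓ centralizer (A : Set G) = ⊥ → R ≤ centralizer (Cfsg.sigmaCore M : Set G)

/-- no nontrivial `τ₃(M)`-subgroup of `M` centralizes `M_σ`. -/
def S8 (G : Type u) [Group G] : Prop :=
  ∀ (M : Subgroup G) (r : ℕ) [Fact r.Prime] (R : Subgroup G), IsCoatom M → r ∈ Cfsg.tau3 M → R ≤ M →
    IsPGroup r R → R ≤ centralizer (Cfsg.sigmaCore M : Set G) → R = ⊥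

/-- `p, r ∈ σ(L)`, `r` not ideal: a `p`-subgroup of `L` normalizing an `r`-subgroup of `L`
centralizes it. -/
def S9 (G : Type u) [Group G] : Prop :=
  ∀ (L : Subgroup G) (p r : ℕ) [Fact p.Prime] [Fact r.Prime] (X Y : Subgroup G), IsCoatom L →
    p ∈ Cfsg.sigma L → r ∈ Cfsg.sigma L → r ≠ p → ¬ Cfsg.IsIdealPrime r G → X ≤ L → Y ≤ L →
    IsPGroup p X → IsPGroup r Y → X ≤ normalizer (Y : Set G) → Y ≤ centralizer (X : Set G)

/-- `A` centralizes every `A`-invariant Sylow `r`-subgroup of `O_{p'}(M)`, `r ∉ σ(M)`. -/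
def S10 (G : Type u) [Group G] : Prop :=
  ∀ (M : Subgroup G) (p : ℕ) [Fact p.Prime] (A A₀ : Subgroup G) (r : ℕ) [Fact r.Prime] (T : Subgroup G),
    Hyp M p A A₀ → r ∉ Cfsg.sigma M → IsSylowIn r T (Cfsg.Agent.Lib.Helper28.opPrimeIn p M) →
    A ≤ normalizer (T : Set G) → T ≤ centralizer (A : Set G)

/-- B-G 12.5(c). -/
def SC (G : Type u) [Group G] : Prop :=
  ∀ (M : Subgroup G) (p : ℕ) [Fact p.Prime] (A A₀ : Subgroup G), Hyp M p A A₀ →
    M ≤ normalizer ((Cfsg.sigmaCore M ⊔ A : Subgroup G) : Set G)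

/-- B-G 12.5(e). -/
def SE (G : Type u) [Group G] : Prop :=
  ∀ (M : Subgroup G) (p : ℕ) [Fact p.Prime] (A A₀ H : Subgroup G), Hyp M p A A₀ → IsCoatom H →
    H ≠ M → A ≤ H → Cfsg.sigmaCore M ⊓ H = ⊥

end Cfsg.Agent.Lib.Helper39.BG11
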