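import Cfsg.Agent.Lib.Helper39.BG11Asm
import Cfsg.Agent.Lib.Helper67.BG11_1
import Cfsg.Agent.Lib.Helper67.BG11_2
import Cfsg.Agent.Lib.Helper67.BG11_3
import Cfsg.Agent.Lib.Helper68.BG11_4a
import Cfsg.Agent.Lib.Helper41.BG124P3

/-!
B-G section 11: `T11 G` modulo RUNG 4b, and `SNe G`.
-/

set_option autoImplicit false

namespace Cfsg.Agent.Lib.Helper39B

open Subgroup Cfsg.Agent.Lib.Helper30 Cfsg.Agent.Lib.Helper39.BG11

universe u

variable {G : Type u} [Group G] [Finite G]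

/-- RUNG 6: `M_σ ≠ 1`. -/
theorem sNe (hG : Cfsg.IsMinSimpleOddOrder G) : SNe G := by
  intro M hM
  by_cases hα : Cfsg.alphaCore M = ⊥
  · exact (Cfsg.Agent.Lib.Helper41.BG124.P3 hG hM hα).2.2.2
  · intro hσ
    apply hα
    rw [eq_bot_iff, ← hσ]
    exact (Cfsg.Agent.S1405.result hG M hM).2.2.1

/-- section 11 from RUNG 4b. -/
theorem t11_of_4b (hG : Cfsg.IsMinSimpleOddOrder G)
    (r4b : ∀ (M : Subgroup G) (p : ℕ) [Fact p.Prime] (A A₀ : Subgroup G), Hyp M p A A₀ →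
      NoCommon M A → Cfsg.sigmaCore M ≠ ⊥ → (∀ x ∈ centralizer (A : Set G), x ^ p = 1 ↔ x ∈ A) →
      ∀ P : Subgroup G, IsSylowIn p P M → A ≤ P → P ≤ centralizer (A : Set G)) : T11 G :=
  t11_of hG (fun _ _ _ _ _ h ht => Cfsg.Agent.Lib.Helper67.BG11.noCommon hG h ht)
    (fun _ _ _ _ _ h h1 => Cfsg.Agent.Lib.Helper67.BG11.ti_of_noCommon hG h h1)
    (fun _ _ _ _ _ h h2 => Cfsg.Agent.Lib.Helper67.BG11.nilpotent_sigma hG h h2)
    (fun _ _ _ S hAS hea hc hom =>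
      Cfsg.Agent.Lib.Helper68.BG11.comm_centralizer_in_sylow hG S hAS hea hc hom)
    r4b (sNe hG)

end Cfsg.Agent.Lib.Helper39B
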