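import Cfsg.Agent.Lib.Helper39.BG11Final
import Cfsg.Agent.Lib.Helper31.BG11_4b
import Cfsg.Agent.Lib.Helper31.BG11_12
import Cfsg.Agent.Lib.Helper3.BG117D
import Cfsg.Agent.S1416

/-!
B-G section 11 and Theorem 12.5, unconditionally.
-/

set_option autoImplicit false

namespace Cfsg.Agent.Lib.Helper39B

open Subgroup Cfsg.Agent.Lib.Helper30 Cfsg.Agent.Lib.Helper39.BG11

universe u

variable {G : Type u} [Group G] [Finite G]

/-- B-G section 11. -/
theorem t11 (hG : Cfsg.IsMinSimpleOddOrder G) : T11 G :=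
  t11_of_4b hG (fun _ _ _ _ _ h h1 hne hom _ hP hAP =>
    Cfsg.Agent.Lib.Helper31.le_centralizer_of_sylow hG h h1 hne hom hP hAP)

theorem t16 (hG : Cfsg.IsMinSimpleOddOrder G) : T16 G :=
  t16_of (fun M hM p _ A hA => Cfsg.Agent.S1416.result hG M hM p A hA)

theorem sC (hG : Cfsg.IsMinSimpleOddOrder G) : SC G :=
  Cfsg.Agent.Lib.Helper3.BG117.sC_of_T11 hG (t11 hG)

theorem sE (hG : Cfsg.IsMinSimpleOddOrder G) : SE G :=
  Cfsg.Agent.Lib.Helper31.sE hG (t16 hG) (t11 hG) (sC hG)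

end Cfsg.Agent.Lib.Helper39B
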