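import Cfsg.Agent.Lib.Helper58.BG1212Defs
import Cfsg.Agent.Lib.Helper62.BG1212Cyc
import Cfsg.Agent.Lib.Helper12.Card
import Cfsg.Agent.Lib.Helper1.Coprime

/-!
Ladder BG1212 of helper58 (statement S1421): rung STEP, with CYCINV as a hypothesis.
-/

set_option autoImplicit false

namespace Cfsg.Agent.Lib.Helper39B.BG1212

open Subgroup Cfsg.Agent.Lib.Helper30 Cfsg.Agent.Lib.Helper58.BG1212

universe u

variable {G : Type u} [Group G]

theorem step_of [Finite G] {p : ℕ} [Fact p.Prime] {F S X : Subgroup G} (hS : IsSylowIn p S F)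
    (hFS : F ≤ normalizer (S : Set G)) (hX : Nat.card X = p) (hFX : F ≤ normalizer (X : Set G))
    {u : G} (hu : u ∈ S) (hmax : ∀ w ∈ S, w ^ orderOf u = 1)
    (hcyc : ∀ K : Subgroup G, K ≤ normalizer (S : Set G) → (Nat.card K).Coprime p →
      K ≤ normalizer (X : Set G) → ∃ Y : Subgroup G, Y ≤ S ∧ IsCyclic Y ∧
        K ≤ normalizer (Y : Set G) ∧ X ≤ Y ∧ Nat.card Y = orderOf u) :
    ∃ F' : Subgroup G, F' ≤ F ∧ Monoid.exponent F' = Monoid.exponent F ∧
      (∀ e ∈ F', orderOf e = p → e ∈ X) ∧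
      ∀ Q : Subgroup G, Q ≤ F → F ≤ normalizer (Q : Set G) → (Nat.card Q).Coprime p → Q ≤ F' := by
  have hpp : p.Prime := Fact.out
  obtain ⟨k, hk⟩ := IsPGroup.iff_card.mp hS.isPGroup
  have hcard : Nat.card F = S.relIndex F * Nat.card S := (Cfsg.Agent.Lib.Helper12.relIndex_mul_card' hS.le).symm
  have hmp : (S.relIndex F).Coprime p := ((Nat.Prime.coprime_iff_not_dvd hpp).mpr hS.not_dvd).symm
  obtain ⟨K, hKF, hKc⟩ := Cfsg.Agent.Lib.Helper1.exists_complement_rel' S F hS.le hFS _ hcard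
    (by rw [hk]; exact hmp.pow_right k)
  have hKp : (Nat.card K).Coprime p := hKc ▸ hmp
  have hKScop : (Nat.card K).Coprime (Nat.card S) := by rw [hk]; exact hKp.pow_right k
  have hKS : K ⊓ S = ⊥ := (disjoint_of_coprime_natCard hKScop).eq_bot
  have hKnS : K ≤ normalizer (S : Set G) := hKF.trans hFS
  obtain ⟨Y, hYS, hYc, hKY, hXY, hYu⟩ := hcyc K hKnS hKp (hKF.trans hFX)
  -- `F = K S`
  have hFKS : K ⊔ S = F := by
    apply eq_of_le_of_card_ge (sup_le hKF hS.le)
    rw [Cfsg.Agent.Lib.Helper1.card_sup_of_coprime_le_normalizer hKnS hKScop, hcard, hKc]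
  have hdec : ∀ f ∈ F, ∃ a ∈ K, ∃ s ∈ S, a * s = f := by
    intro f hf
    rw [← hFKS] at hf
    exact (Cfsg.Agent.Lib.Helper1.mem_sup_of_le_normalizer hKnS).mp hf
  -- `p`-elements of `F` lie in `S`
  have hpel : ∀ e ∈ F, e ^ p = 1 → e ∈ S := by
    intro e he hep
    have h1 : IsPGroup p (zpowers e) := by
      obtain ⟨n, -, hn⟩ := (Nat.dvd_prime_pow hpp).mp
        (orderOf_dvd_of_pow_eq_one (show e ^ p ^ 1 = 1 by rwa [pow_one]))
      apply IsPGroup.of_card (n := n)
      rw [Nat.card_zpowers, hn]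
    have h2 : IsPGroup p (zpowers e ⊔ S : Subgroup G) :=
      h1.to_sup_of_normal_right' hS.isPGroup (zpowers_le.mpr (hFS he))
    have h3 := hS.eq_of_le (sup_le (zpowers_le.mpr he) hS.le) h2 le_sup_right
    rw [← h3]
    exact mem_sup_left (mem_zpowers e)
  have hF'F : K ⊔ Y ≤ F := sup_le hKF (hYS.trans hS.le)
  refine ⟨K ⊔ Y, hF'F, ?_, ?_, ?_⟩
  · apply Nat.dvd_antisymm
    · apply Monoid.exponent_dvd_of_forall_pow_eq_one
      intro g
      have h1 := Monoid.pow_exponent_eq_one (⟨g.1, hF'F g.2⟩ : F)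
      apply Subtype.ext
      have h2 := congrArg (Subtype.val : F → G) h1
      simpa using h2
    · -- `exp K * o(u) ∣ exp F'`
      have hK' : Monoid.exponent K ∣ Monoid.exponent ↥(K ⊔ Y) := by
        apply Monoid.exponent_dvd_of_forall_pow_eq_one
        intro g
        have h1 := Monoid.pow_exponent_eq_one (⟨g.1, mem_sup_left g.2⟩ : ↥(K ⊔ Y))
        apply Subtype.ext
        have h2 := congrArg (Subtype.val : ↥(K ⊔ Y) → G) h1
        simpa using h2
      have hu' : orderOf u ∣ Monoid.exponent ↥(K ⊔ Y) := by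
        obtain ⟨g, hg⟩ := hYc.exists_generator
        have h1 : orderOf g = Nat.card Y := orderOf_eq_card_of_forall_mem_zpowers hg
        have h2 := Monoid.order_dvd_exponent (⟨g.1, mem_sup_right g.2⟩ : ↥(K ⊔ Y))
        rw [← hYu, ← h1, ← Subgroup.orderOf_coe]
        rwa [← Subgroup.orderOf_coe] at h2
      have hcop : (Monoid.exponent K).Coprime (orderOf u) := by
        have h1 : Monoid.exponent K ∣ Nat.card K := Group.exponent_dvd_nat_card
        have h2 : orderOf u ∣ Nat.card S := by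
          have := orderOf_dvd_natCard (⟨u, hu⟩ : S)
          rwa [← Subgroup.orderOf_coe] at this
        exact Nat.Coprime.coprime_dvd_left h1 (Nat.Coprime.coprime_dvd_right h2 hKScop)
      refine dvd_trans ?_ (hcop.mul_dvd_of_dvd_of_dvd hK' hu')
      apply Monoid.exponent_dvd_of_forall_pow_eq_one
      intro f
      obtain ⟨a, ha, s, hs, hf⟩ := hdec f.1 f.2
      have hind : ∀ j : ℕ, ∃ s' ∈ S, (a * s) ^ j = a ^ j * s' := by
        intro j
        induction j with
        | zero => exact ⟨1, S.one_mem, by simp⟩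
        | succ j ih =>
          obtain ⟨s', hs', h⟩ := ih
          refine ⟨a⁻¹ * s' * a⁻¹⁻¹ * s, S.mul_mem ?_ hs, ?_⟩
          · exact (mem_normalizer_iff.mp (hKnS (K.inv_mem ha)) s').mp hs'
          · rw [pow_succ, h, pow_succ]; group
      obtain ⟨s', hs', h⟩ := hind (Monoid.exponent K)
      have h1 : a ^ Monoid.exponent K = 1 := by
        have := congrArg (Subtype.val : K → G) (Monoid.pow_exponent_eq_one (⟨a, ha⟩ : K))
        simpa using this
      apply Subtype.ext
      rw [Subgroup.coe_pow, ← hf, pow_mul, h, h1, one_mul, hmax s' hs']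
      rfl
  · intro e he hep
    have heS : e ∈ S := hpel e (hF'F he) (by rw [← hep]; exact pow_orderOf_eq_one e)
    obtain ⟨a, ha, y, hy, rfl⟩ := (Cfsg.Agent.Lib.Helper1.mem_sup_of_le_normalizer hKY).mp he
    have haS : a ∈ S := by
      have := S.mul_mem heS (S.inv_mem (hYS hy))
      rwa [mul_inv_cancel_right] at this
    have ha1 : a = 1 := by
      have : a ∈ K ⊓ S := ⟨ha, haS⟩
      rwa [hKS, mem_bot] at this
    subst ha1
    rw [one_mul] at hep ⊢
    -- a generator of `X`
    have hX1 : X ≠ ⊥ := by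
      intro h
      rw [h, card_bot] at hX
      exact hpp.one_lt.ne hX
    obtain ⟨⟨x, hx⟩, hx1'⟩ := Subgroup.ne_bot_iff_exists_ne_one.mp hX1
    have hx1 : x ≠ 1 := fun h => hx1' (Subtype.ext h)
    have hxp : x ^ p = 1 := by
      have := congrArg (Subtype.val : X → G) (pow_card_eq_one' (x := (⟨x, hx⟩ : X)))
      rw [hX] at this
      simpa using this
    have h1 := Cfsg.Agent.Lib.Helper62.BG1212.mem_zpowers_of_isCyclic (C := Y) (r := p)
      (e := ⟨x, hXY hx⟩) (b := ⟨y, hy⟩) (k := 1)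
      (by apply Subtype.ext; simpa using hxp)
      (fun h => hx1 (congrArg Subtype.val h))
      (by apply Subtype.ext; rw [← hep]; simp [pow_orderOf_eq_one y])
    obtain ⟨j, hj⟩ := mem_zpowers_iff.mp h1
    have h2 := congrArg (Subtype.val : Y → G) hj
    simp only [Subgroup.coe_zpow] at h2
    rw [← h2]
    exact X.zpow_mem hx j
  · intro Q hQF hFQ hQp
    have hKQ : K ≤ normalizer (Q : Set G) := hKF.trans hFQ
    have h1 := Cfsg.Agent.Lib.Helper12.card_sup_mul_card_inf' K Q hKQ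
    have h2 : (Nat.card (K ⊔ Q : Subgroup G)).Coprime p :=
      Nat.Coprime.coprime_dvd_left (Dvd.intro _ h1) (Nat.Coprime.mul_left hKp hQp)
    have h3 : Nat.card (K ⊔ Q : Subgroup G) ∣ S.relIndex F * Nat.card S :=
      hcard ▸ card_dvd_of_le (sup_le hKF hQF)
    have h4 : Nat.card (K ⊔ Q : Subgroup G) ∣ S.relIndex F :=
      Nat.Coprime.dvd_of_dvd_mul_right (by rw [hk]; exact h2.pow_right k) h3
    have h5 : K = K ⊔ Q := by
      apply eq_of_le_of_card_ge le_sup_left
      rw [hKc]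
      exact Nat.le_of_dvd (Nat.pos_of_ne_zero (fun h => by
        rw [h] at hmp; simp at hmp; exact hpp.one_lt.ne' hmp)) h4
    exact (le_sup_right.trans h5.ge).trans le_sup_left

end Cfsg.Agent.Lib.Helper39B.BG1212
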