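import Cfsg.Agent.Lib.Helper39.Alperin
import Cfsg.Agent.Lib.Helper39.RelAlperin
import Cfsg.Agent.Lib.Helper39.PCoreOf
import Cfsg.Agent.Lib.Helper52.Stab

set_option autoImplicit false

namespace Cfsg.Agent.Lib.Helper39

variable {G : Type*} [Group G]

theorem cj_sup (g : G) (H K : Subgroup G) : cj g (H ⊔ K) = cj g H ⊔ cj g K :=
  Subgroup.map_sup _ _ _

theorem mem_sup_of_le_normalizer {A B : Subgroup G} (h : A ≤ Subgroup.normalizer (B : Set G))
    {x : G} (hx : x ∈ A ⊔ B) : ∃ a ∈ A, ∃ b ∈ B, x = a * b := by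
  let H : Subgroup G :=
    { carrier := {x | ∃ a ∈ A, ∃ b ∈ B, x = a * b}
      mul_mem' := by
        rintro _ _ ⟨a, ha, b, hb, rfl⟩ ⟨a', ha', b', hb', rfl⟩
        refine ⟨a * a', A.mul_mem ha ha', a'⁻¹ * b * a' * b', B.mul_mem ?_ hb', by group⟩
        have := conj_mem_cj (g := a'⁻¹) hb
        rwa [cj_eq_of_mem_normalizer (h (A.inv_mem ha')), inv_inv] at this
      one_mem' := ⟨1, A.one_mem, 1, B.one_mem, by simp⟩
      inv_mem' := by
        rintro _ ⟨a, ha, b, hb, rfl⟩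
        refine ⟨a⁻¹, A.inv_mem ha, a * b⁻¹ * a⁻¹, ?_, by group⟩
        have := conj_mem_cj (g := a) (B.inv_mem hb)
        rwa [cj_eq_of_mem_normalizer (h ha)] at this }
  have hA : A ≤ H := fun a ha => ⟨a, ha, 1, B.one_mem, by simp⟩
  have hB : B ≤ H := fun b hb => ⟨1, A.one_mem, b, hb, by simp⟩
  exact (sup_le hA hB) hx

theorem pow_mul_mem {B : Subgroup G} {a b : G} (ha : a ∈ Subgroup.normalizer (B : Set G))
    (hb : b ∈ B) (m : ℕ) : ∃ b' ∈ B, (a * b) ^ m = a ^ m * b' := by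
  induction m with
  | zero => exact ⟨1, B.one_mem, by simp⟩
  | succ m ih =>
    obtain ⟨b', hb', e⟩ := ih
    refine ⟨a⁻¹ * b' * a * b, B.mul_mem ?_ hb, ?_⟩
    · have := conj_mem_cj (g := a⁻¹) hb'
      rwa [cj_eq_of_mem_normalizer (Subgroup.inv_mem _ ha), inv_inv] at this
    · rw [pow_succ, e, pow_succ]; group

/-- If `Γ / C` is a `p`-group and `Q` is a Sylow `p`-subgroup of `Γ` then `Γ = Q C`. -/
theorem le_sup_of_pmod [Finite G] {p : ℕ} [hp : Fact p.Prime] {Γ C Q : Subgroup G} (hC : C ≤ Γ)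
    (hn : Γ ≤ Subgroup.normalizer (C : Set G)) (hidx : ¬ p ∣ Q.relIndex Γ)
    (hpm : ∀ γ ∈ Γ, ∃ k : ℕ, γ ^ (p ^ k) ∈ C) : Γ ≤ Q ⊔ C := by
  have hnorm : (C.subgroupOf Γ).Normal := (Subgroup.normal_subgroupOf_iff_le_normalizer hC).mpr hn
  have hpg : IsPGroup p (Γ ⧸ C.subgroupOf Γ) := by
    intro q
    obtain ⟨γ, rfl⟩ := QuotientGroup.mk_surjective q
    obtain ⟨k, hk⟩ := hpm γ γ.2
    refine ⟨k, ?_⟩
    rw [← QuotientGroup.mk_pow, QuotientGroup.eq_one_iff]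
    exact hk
  obtain ⟨n, hn'⟩ := IsPGroup.iff_card.mp hpg
  have h1 : C.relIndex Γ = p ^ n := hn'
  have h2 : (Q ⊔ C).relIndex Γ ∣ p ^ n := by
    rw [← h1]; exact Subgroup.relIndex_dvd_of_le_left _ le_sup_right
  have h3 : (Q ⊔ C).relIndex Γ ∣ Q.relIndex Γ := Subgroup.relIndex_dvd_of_le_left _ le_sup_left
  obtain ⟨j, -, hj⟩ := (Nat.dvd_prime_pow hp.out).mp h2
  rw [← Subgroup.relIndex_eq_one, hj]
  rcases Nat.eq_zero_or_pos j with h0 | hpos
  · rw [h0, pow_zero]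
  · exfalso
    apply hidx
    refine dvd_trans ?_ h3
    rw [hj]
    exact dvd_pow_self p hpos.ne'

/-- in a `p`-group, a subgroup `W` normalized by `A` and not inside `A` has an element normalizing
`A` outside `A`. -/
theorem exists_mem_normalizer_not_mem [Finite G] {p : ℕ} [Fact p.Prime] {A W : Subgroup G}
    (hAW : IsPGroup p (A ⊔ W : Subgroup G)) (hn : A ≤ Subgroup.normalizer (W : Set G))
    (hW : ¬ W ≤ A) : ∃ w ∈ W ⊓ Subgroup.normalizer (A : Set G), w ∉ A := by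
  have hlt : A < A ⊔ W := lt_of_le_of_ne le_sup_left (fun h => hW (by rw [h]; exact le_sup_right))
  obtain ⟨_, z, hz, hzA⟩ := SetLike.lt_iff_le_and_exists.mp (lt_inf_normalizer hAW hlt)
  obtain ⟨a, ha, w, hw, e⟩ := mem_sup_of_le_normalizer hn hz.1
  have e' : w = a⁻¹ * z := by rw [e]; group
  refine ⟨w, ⟨hw, ?_⟩, ?_⟩
  · rw [e']
    exact Subgroup.mul_mem _ (Subgroup.inv_mem _ (Subgroup.le_normalizer ha)) hz.2
  · intro hwA
    apply hzA
    rw [e]; exact A.mul_mem ha hwA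

end Cfsg.Agent.Lib.Helper39
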