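import Cfsg.Agent.Lib.Helper39.BG11T

/-!
B-G section 11: RUNG 5 (two fixed-point-free subgroups), RUNG 5b, and the assembly of `T11`
and of the text of S1417 from the rungs.
-/

set_option autoImplicit false

namespace Cfsg.Agent.Lib.Helper39B

open Subgroup Cfsg.Agent.Lib.Helper30 Cfsg.Agent.Lib.Helper2 Cfsg.Agent.Lib.Helper28.BG12
  Cfsg.Agent.Lib.Helper39.BG11 Cfsg.Agent.Lib.Helper68

universe u

variable {G : Type u} [Group G] [Finite G] {M A A₀ : Subgroup G} {p : ℕ} [hpp : Fact p.Prime]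

theorem fpf_cj (h : Hyp M p A A₀) (h2 : TI M A) {g : G} (hg : g ∉ M) (hAg : A ≤ cj g M) :
    Cfsg.sigmaCore M ⊓ centralizer ((cj g A₀ : Subgroup G) : Set G) = ⊥ := by
  rw [eq_bot_iff, ← h2 g hg hAg]
  refine inf_le_inf_left _ ?_
  calc centralizer ((cj g A₀ : Subgroup G) : Set G) ≤ normalizer ((cj g A₀ : Subgroup G) : Set G) :=
        centralizer_le_normalizer' _
    _ = cj g (normalizer (A₀ : Set G)) := normalizer_cj' g A₀
    _ ≤ cj g M := cj_mono g h.norm₀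

theorem sq_not_mem (hG : Cfsg.IsMinSimpleOddOrder G) {n : G} (hn : n ∉ M) : n ^ 2 ∉ M := by
  intro h2
  apply hn
  have hodd : Odd (orderOf n) := hG.1.of_dvd_nat (orderOf_dvd_natCard n)
  obtain ⟨k, hk⟩ := hodd
  have : n = (n ^ 2) ^ (k + 1) := by
    rw [← pow_mul, show 2 * (k + 1) = orderOf n + 1 by omega, pow_succ, pow_orderOf_eq_one, one_mul]
  rw [this]
  exact pow_mem h2 _

/-- RUNG 5. -/
theorem exists_two_fpf (hG : Cfsg.IsMinSimpleOddOrder G) (h : Hyp M p A A₀) (h2 : TI M A)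
    (hn : ¬ normalizer (A : Set G) ≤ M) :
    ∃ A₁ A₂ : Subgroup G, A₁ ≤ A ∧ A₂ ≤ A ∧ Nat.card A₁ = p ∧ Nat.card A₂ = p ∧ A₁ ≠ A₂ ∧
      Cfsg.sigmaCore M ⊓ centralizer (A₁ : Set G) = ⊥ ∧
      Cfsg.sigmaCore M ⊓ centralizer (A₂ : Set G) = ⊥ := by
  obtain ⟨n, hnA, hnM⟩ := SetLike.not_le_iff_exists.mp hn
  have hn2M := sq_not_mem hG hnM
  have hn2A : n ^ 2 ∈ normalizer (A : Set G) := pow_mem hnA 2
  have key : ∀ g : G, g ∈ normalizer (A : Set G) → A ≤ cj g M := by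
    intro g hg
    calc A = cj g A := (cj_eq_of_mem_normalizer hg).symm
      _ ≤ cj g M := cj_mono g h.le
  have key2 : ∀ g : G, g ∈ normalizer (A : Set G) → cj g A₀ ≤ A := by
    intro g hg
    calc cj g A₀ ≤ cj g A := cj_mono g h.le₀
      _ = A := cj_eq_of_mem_normalizer hg
  refine ⟨cj n A₀, cj (n ^ 2) A₀, key2 n hnA, key2 _ hn2A, by rw [card_cj, h.card₀],
    by rw [card_cj, h.card₀], ?_, fpf_cj h h2 hnM (key n hnA), fpf_cj h h2 hn2M (key _ hn2A)⟩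
  intro he
  apply hnM
  apply h.norm₀
  apply mem_normalizer_of_cj_eq
  rw [pow_two, cj_mul] at he
  have := congrArg (cj n⁻¹) he
  rw [cj_inv_cj, cj_inv_cj] at this
  exact this.symm

/-- RUNG 5b. -/
theorem s5b (h16 : T16 G) (h11 : T11 G) : S5b G := by
  intro M p _ A A₀ L h hL hNL
  by_contra hp
  obtain ⟨B₀, hB⟩ := h16 L p A hL hp (le_normalizer.trans hNL) h.ea h.card
  exact (h11 L p A B₀ hB).nnorm hNL

theorem ne_bot_of_hyp (h : Hyp M p A A₀) : A ≠ ⊥ := by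
  rintro rfl
  have := h.card
  rw [card_bot] at this
  have h1 := hpp.out.one_lt
  nlinarith [Nat.pow_lt_pow_right h1 (show 0 < 2 by norm_num)]

theorem exists_normalizer_not_mem (h : Hyp M p A A₀) {P : Subgroup G} (hP : IsSylowIn p P M)
    (hAP : A ≤ P) : ∃ g ∈ normalizer (P : Set G), g ∉ M := by
  by_contra hcon
  push Not at hcon
  have hP1 : P ≠ ⊥ := fun hb => ne_bot_of_hyp h (eq_bot_iff.mpr (hb ▸ hAP))
  exact h.ns (mem_sigma_of_normalizer_le hP hP1 hcon)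

/-- if `P ≥ A` is a subgroup of `C_G(A)`, then `N_G(P) ≤ N_G(A)`. -/
theorem normalizer_le_of_omega (hom : ∀ x ∈ centralizer (A : Set G), x ^ p = 1 ↔ x ∈ A)
    {P : Subgroup G} (hAP : A ≤ P) (hPC : P ≤ centralizer (A : Set G)) :
    normalizer (P : Set G) ≤ normalizer (A : Set G) := by
  intro g hg
  apply mem_normalizer_of_cj_le'
  rintro _ ⟨a, ha, rfl⟩
  have h1 : g * a * g⁻¹ ∈ P := (mem_normalizer_iff.mp hg a).mp (hAP ha)
  change g * a * g⁻¹ ∈ A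
  rw [← hom _ (hPC h1), conj_pow, (hom a (hPC (hAP ha))).mpr ha]
  group

/-- The assembly of section 11. -/
theorem t11_of (hG : Cfsg.IsMinSimpleOddOrder G)
    (r1 : ∀ (M : Subgroup G) (p : ℕ) [Fact p.Prime] (A A₀ : Subgroup G), Hyp M p A A₀ →
      Cfsg.TransitivityHypothesis A → NoCommon M A)
    (r2 : ∀ (M : Subgroup G) (p : ℕ) [Fact p.Prime] (A A₀ : Subgroup G), Hyp M p A A₀ →
      NoCommon M A → TI M A)
    (r3 : ∀ (M : Subgroup G) (p : ℕ) [Fact p.Prime] (A A₀ : Subgroup G), Hyp M p A A₀ →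
      TI M A → Group.IsNilpotent (Cfsg.sigmaCore M))
    (r4a : ∀ (p : ℕ) [Fact p.Prime] (A : Subgroup G) (S : Sylow p G), A ≤ (S : Subgroup G) →
      Cfsg.IsElementaryAbelian p A → Nat.card A = p ^ 2 →
      (∀ x ∈ centralizer (A : Set G), x ^ p = 1 ↔ x ∈ A) →
      ∀ x ∈ (S : Subgroup G) ⊓ centralizer (A : Set G),
        ∀ y ∈ (S : Subgroup G) ⊓ centralizer (A : Set G), x * y = y * x)
    (r4b : ∀ (M : Subgroup G) (p : ℕ) [Fact p.Prime] (A A₀ : Subgroup G), Hyp M p A A₀ →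
      NoCommon M A → Cfsg.sigmaCore M ≠ ⊥ → (∀ x ∈ centralizer (A : Set G), x ^ p = 1 ↔ x ∈ A) →
      ∀ P : Subgroup G, IsSylowIn p P M → A ≤ P → P ≤ centralizer (A : Set G))
    (r6 : SNe G) : T11 G := by
  intro M p _ A A₀ h
  have hom := hyp_omega hG h
  have ht := hyp_trans hG h
  have h1 := r1 M p A A₀ h ht
  have h2 := r2 M p A A₀ h h1
  obtain ⟨P', hP', hAP'⟩ := exists_isSylowIn_ge h.le (hyp_isPGroup h)
  have hPC := r4b M p A A₀ h h1 (r6 M h.max) hom P' hP' hAP'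
  have hnn : ¬ normalizer (A : Set G) ≤ M := by
    intro hle
    obtain ⟨g, hg, hgM⟩ := exists_normalizer_not_mem h hP' hAP'
    exact hgM (hle (normalizer_le_of_omega hom hAP' hPC hg))
  refine ⟨h.cent, hom, ht, h2, r3 M p A A₀ h h2, ?_, exists_two_fpf hG h h2 hnn, hnn⟩
  intro P hP
  obtain ⟨S, hS⟩ := hP'.isPGroup.exists_le_sylow
  have hc' : ∀ x ∈ P', ∀ y ∈ P', x * y = y * x := fun x hx y hy =>
    r4a p A S (hAP'.trans hS) h.ea h.card hom x ⟨hS hx, hPC hx⟩ y ⟨hS hy, hPC hy⟩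
  obtain ⟨m, _, rfl⟩ := hP'.conj hP
  rintro _ ⟨x, hx, rfl⟩ _ ⟨y, hy, rfl⟩
  change m * x * m⁻¹ * (m * y * m⁻¹) = m * y * m⁻¹ * (m * x * m⁻¹)
  have := hc' x hx y hy
  calc m * x * m⁻¹ * (m * y * m⁻¹) = m * (x * y) * m⁻¹ := by group
    _ = m * (y * x) * m⁻¹ := by rw [this]
    _ = m * y * m⁻¹ * (m * x * m⁻¹) := by group

/-- `T16` from the text of S1416. -/
theorem t16_of
    (h : ∀ (M : Subgroup G), IsCoatom M → ∀ (p : ℕ) [Fact p.Prime] (A : Subgroup G),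
      (A ≤ M ∧ Cfsg.IsElementaryAbelian p A ∧ Nat.card A = p ^ 2) →
      Subgroup.centralizer (A : Set G) ≤ M ∧
      ((∀ A₀ : Subgroup G, A₀ ≤ A → Nat.card A₀ = p →
          ¬ (Subgroup.normalizer (A₀ : Set G) ≤ M ∧ ∀ L : Subgroup G, IsCoatom L →
            Subgroup.normalizer (A₀ : Set G) ≤ L → L = M)) →
        p ∈ Cfsg.sigma M ∧ Cfsg.alphaCore M = ⊥ ∧ Group.IsNilpotent (Cfsg.sigmaCore M))) :
    T16 G := by
  intro M p _ A hM hp hAM hea hc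
  by_contra hcon
  apply hp
  refine ((h M hM p A ⟨hAM, hea, hc⟩).2 ?_).1
  intro A₀ hA₀ hc₀ hN
  exact hcon ⟨A₀, ⟨hM, hp, hAM, hea, hc, hA₀, hc₀, hN.1⟩⟩

/-- The text of S1417 from the rungs. -/
theorem S1417_of (h16 : T16 G) (h11 : T11 G) (hC : SC G) (hE : SE G)
    (M : Subgroup G) (hM : IsCoatom M) (p : ℕ) [Fact p.Prime] (hp : p ∈ Cfsg.tau2 M) (A : Subgroup G)
    (hA : (A ≤ M ∧ Cfsg.IsElementaryAbelian p A ∧ Nat.card A = p ^ 2)) :
    Group.IsNilpotent (Cfsg.sigmaCore M) ∧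
      (∀ P : Sylow p M, IsMulCommutative (P : Subgroup M) ∧
        (A ≤ (P : Subgroup M).map M.subtype →
          (∀ x ∈ (P : Subgroup M).map M.subtype, x ^ p = 1 ↔ x ∈ A) ∧
          ¬ Subgroup.normalizer ((((P : Subgroup M).map M.subtype : Subgroup G)) : Set G) ≤ M)) ∧
      M ≤ Subgroup.normalizer ((Cfsg.sigmaCore M ⊔ A : Subgroup G) : Set G) ∧
      Cfsg.sigmaCore M ⊓ Subgroup.centralizer (A : Set G) = ⊥ ∧
      (∀ Mstar : Subgroup G, IsCoatom Mstar → Mstar ≠ M → A ≤ Mstar → Cfsg.sigmaCore M ⊓ Mstar = ⊥) ∧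
      ∃ A₁ : Subgroup G, A₁ ≤ A ∧ Nat.card A₁ = p ∧
        Cfsg.sigmaCore M ⊓ Subgroup.centralizer (A₁ : Set G) = ⊥ := by
  obtain ⟨A₀, h⟩ := h16 M p A hM hp.2.1 hA.1 hA.2.1 hA.2.2
  have res := h11 M p A A₀ h
  obtain ⟨A₁, A₂, hA₁, -, hc₁, -, -, hf₁, -⟩ := res.fpf2
  refine ⟨res.nil, ?_, hC M p A A₀ h, ?_, fun H hH hne hAH => hE M p A A₀ H h hH hne hAH,
    A₁, hA₁, hc₁, hf₁⟩
  · intro P
    have hP := isSylowIn_of_sylow P
    have hcomm := res.comm _ hP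
    refine ⟨⟨⟨?_⟩⟩, ?_⟩
    · rintro ⟨x, hx⟩ ⟨y, hy⟩
      apply Subtype.ext
      apply Subtype.ext
      exact hcomm x ⟨x, hx, rfl⟩ y ⟨y, hy, rfl⟩
    · intro hAP
      have hPC : (P : Subgroup M).map M.subtype ≤ centralizer (A : Set G) := by
        intro x hx
        rw [mem_centralizer_iff]
        intro a ha
        exact hcomm a (hAP ha) x hx
      refine ⟨fun x hx => res.omega x (hPC hx), ?_⟩
      intro hle
      obtain ⟨g, hg, hgM⟩ := exists_normalizer_not_mem h hP hAP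
      exact hgM (hle hg)
  · rw [eq_bot_iff, ← hf₁]
    exact inf_le_inf_left _ (centralizer_le (SetLike.coe_subset_coe.mpr hA₁))

end Cfsg.Agent.Lib.Helper39B
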