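import Cfsg.Agent.Lib.Helper39.BG11Defs
import Cfsg.Agent.S1396
import Cfsg.Agent.S1408
import Cfsg.Agent.S1410

/-!
B-G section 11, RUNG T: basic consequences of Hypothesis 11.1.
-/

set_option autoImplicit false

namespace Cfsg.Agent.Lib.Helper39B

open Subgroup Cfsg.Agent.Lib.Helper30 Cfsg.Agent.Lib.Helper2 Cfsg.Agent.Lib.Helper28.BG12
  Cfsg.Agent.Lib.Helper39.BG11

universe u

variable {G : Type u} [Group G] [Finite G] {M A A₀ : Subgroup G} {p : ℕ} [hpp : Fact p.Prime]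

theorem ea_zpowers {x : G} (hx : x ^ p = 1) : Cfsg.IsElementaryAbelian p (zpowers x) := by
  refine ⟨⟨⟨?_⟩⟩, ?_⟩
  · rintro ⟨a, ha⟩ ⟨b, hb⟩
    obtain ⟨i, rfl⟩ := mem_zpowers_iff.mp ha
    obtain ⟨j, rfl⟩ := mem_zpowers_iff.mp hb
    apply Subtype.ext
    exact (Commute.zpow_zpow_self x i j).eq
  · intro a ha
    obtain ⟨i, rfl⟩ := mem_zpowers_iff.mp ha
    rw [← zpow_natCast, ← zpow_mul, mul_comm, zpow_mul, zpow_natCast, hx, one_zpow]

theorem hyp_rank2 (hG : Cfsg.IsMinSimpleOddOrder G) (h : Hyp M p A A₀) : Cfsg.PRankLE p 2 M :=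
  pRankLE_two_of_not_mem_sigma hG h.max hpp.out h.ns

theorem hyp_rank1 (h : Hyp M p A A₀) : ¬ Cfsg.PRankLE p 1 M :=
  not_pRankLE_of_elementary h.le h.ea (by
    rw [h.card]; exact Nat.pow_lt_pow_right hpp.out.one_lt (by norm_num))

theorem hyp_omega (hG : Cfsg.IsMinSimpleOddOrder G) (h : Hyp M p A A₀) :
    ∀ x ∈ centralizer (A : Set G), x ^ p = 1 ↔ x ∈ A := by
  intro x hx
  refine ⟨fun hxp => ?_, fun hxA => h.ea.2 x hxA⟩
  have hB : Cfsg.IsElementaryAbelian p (A ⊔ zpowers x) := by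
    apply ea_sup h.ea (ea_zpowers hxp)
    intro a ha b hb
    obtain ⟨i, rfl⟩ := mem_zpowers_iff.mp hb
    have : Commute a x := (mem_centralizer_iff.mp hx a ha)
    exact (this.zpow_right i).eq
  have := (Cfsg.Agent.S1408.result hG M h.max p h.ns (hyp_rank2 hG h) (hyp_rank1 h)).2 A h.le h.ea h.card
    (A ⊔ zpowers x) hB le_sup_left
  rw [← this]
  exact (le_sup_right : zpowers x ≤ A ⊔ zpowers x) (mem_zpowers x)

theorem hyp_isPGroup (h : Hyp M p A A₀) : IsPGroup p A := ea_isPGroup h.ea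

theorem hyp_dvd_card (h : Hyp M p A A₀) : p ∣ Nat.card M :=
  (Dvd.intro_left p (by rw [h.card]; ring)).trans (card_dvd_of_le h.le)

theorem hyp_trans (hG : Cfsg.IsMinSimpleOddOrder G) (h : Hyp M p A A₀) :
    Cfsg.TransitivityHypothesis A :=
  Cfsg.Agent.S1396.result hG p ((hyp_dvd_card h).trans (card_subgroup_dvd_card M)) A (hyp_isPGroup h) h.ea.1
    (Or.inl ⟨hyp_omega hG h, fun H hH => Cfsg.Agent.S1410.result hG p H hH⟩)

theorem normalizer_cj' (g : G) (X : Subgroup G) :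
    normalizer ((cj g X : Subgroup G) : Set G) = cj g (normalizer (X : Set G)) := by
  ext y
  rw [mem_cj]
  constructor
  · intro hy
    apply mem_normalizer_of_cj_eq
    have := cj_eq_of_mem_normalizer hy
    rw [cj_mul, cj_mul, this, cj_inv_cj]
  · intro hy
    apply mem_normalizer_of_cj_eq
    have := cj_eq_of_mem_normalizer hy
    rw [cj_mul, cj_mul] at this
    have h2 := congrArg (cj g) this
    rwa [cj_cj_inv] at h2

theorem hyp_cj_of_mem (h : Hyp M p A A₀) {m : G} (hm : m ∈ M) : Hyp M p (cj m A) (cj m A₀) where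
  max := h.max
  ns := h.ns
  le := by
    have := cj_mono m h.le
    rwa [cj_eq_of_mem hm] at this
  ea := ea_cj h.ea m
  card := by rw [card_cj, h.card]
  le₀ := cj_mono m h.le₀
  card₀ := by rw [card_cj, h.card₀]
  norm₀ := by
    rw [normalizer_cj']
    have := cj_mono m h.norm₀
    rwa [cj_eq_of_mem hm] at this

end Cfsg.Agent.Lib.Helper39B
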