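import Cfsg.Agent.Lib.Helper28.BG12b

/-!
B-G Lemma 12.12 (statement S1421): common definitions of the ladder "BG1212".
-/

set_option autoImplicit false

namespace Cfsg.Agent.Lib.Helper39B.L12

open Subgroup Cfsg.Agent.Lib.Helper30

universe u

variable {G : Type u} [Group G]

/-- `b` acts regularly on `M_σ`. -/
def Reg (M : Subgroup G) (b : G) : Prop :=
  Cfsg.sigmaCore M ⊓ centralizer ({b} : Set G) = ⊥

/-- the hypothesis of S1421. -/
def HReg (M E : Subgroup G) : Prop :=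
  ∀ e ∈ E, e ≠ 1 → (∀ p : ℕ, p.Prime → p ∣ orderOf e → p ∈ Cfsg.tau1 M ∪ Cfsg.tau3 M) →
    Cfsg.sigmaCore M ⊓ centralizer ({e} : Set G) = ⊥

/-- the conclusion of S1421. -/
def C1421 (M E : Subgroup G) : Prop :=
  (∃ A₀ : Subgroup G, A₀ ≤ E ∧ E ≤ normalizer (A₀ : Set G) ∧ IsMulCommutative A₀ ∧
      ∀ x ∈ Cfsg.sigmaCore M, x ≠ 1 → E ⊓ centralizer ({x} : Set G) ≤ A₀) ∧
    ∃ E₀ : Subgroup G, E₀ ≤ E ∧ Monoid.exponent E₀ = Monoid.exponent E ∧
      ∀ e ∈ E₀, e ≠ 1 → Cfsg.sigmaCore M ⊓ centralizer ({e} : Set G) = ⊥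

/-- the data for one prime `p ∈ τ₂(M)` in the abelian case: `S` the normal abelian Sylow
`p`-subgroup of `E`, `B ≤ S` normal in `E`, of the same exponent, acting regularly on `M_σ`. -/
structure Dat (M E : Subgroup G) (p : ℕ) (S B : Subgroup G) : Prop where
  syl : IsSylowIn p S E
  norm : E ≤ normalizer (S : Set G)
  comm : ∀ a ∈ S, ∀ b ∈ S, a * b = b * a
  le : B ≤ S
  normB : E ≤ normalizer (B : Set G)
  exp : ∀ s ∈ S, ∃ b ∈ B, orderOf s ∣ orderOf b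
  reg : ∀ b ∈ B, b ≠ 1 → Reg M b

/-- the structure of `N_G(A)` in the abelian case (B-G 12.8). -/
structure NS (E : Subgroup G) (p : ℕ) (A S : Subgroup G) : Prop where
  syl : IsSylowIn p S ⊤
  leS : A ≤ S
  leE : S ≤ E
  comm : ∀ a ∈ S, ∀ b ∈ S, a * b = b * a
  omega : ∀ s ∈ S, s ^ p = 1 ↔ s ∈ A
  norm : normalizer (A : Set G) ≤ normalizer (S : Set G)
  der : ⁅normalizer (A : Set G), normalizer (A : Set G)⁆ ≤ centralizer (S : Set G)

end Cfsg.Agent.Lib.Helper39B.L12
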