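import Cfsg.Agent.Lib.Helper39.BG1212Step
import Cfsg.Agent.Lib.Helper62.BG1212CycInv

/-!
Ladder BG1212 of helper58 (statement S1421): rung STEP, unconditional.
-/

set_option autoImplicit false

namespace Cfsg.Agent.Lib.Helper39B.BG1212

open Subgroup Cfsg.Agent.Lib.Helper30 Cfsg.Agent.Lib.Helper58.BG1212

universe u

variable {G : Type u} [Group G]

theorem step [Finite G] {p : ℕ} [Fact p.Prime] {F S X : Subgroup G} (hS : IsSylowIn p S F)
    (hFS : F ≤ normalizer (S : Set G)) (hSc : ∀ a ∈ S, ∀ b ∈ S, a * b = b * a)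
    (hX : Nat.card X = p) (hFX : F ≤ normalizer (X : Set G)) {u : G} (hu : u ∈ S)
    (hmax : ∀ w ∈ S, w ^ orderOf u = 1) (hXu : X ≤ zpowers u) :
    ∃ F' : Subgroup G, F' ≤ F ∧ Monoid.exponent F' = Monoid.exponent F ∧
      (∀ e ∈ F', orderOf e = p → e ∈ X) ∧
      ∀ Q : Subgroup G, Q ≤ F → F ≤ normalizer (Q : Set G) → (Nat.card Q).Coprime p → Q ≤ F' :=
  step_of hS hFS hX hFX hu hmax (fun _ hKS hKp hKX =>
    Cfsg.Agent.Lib.Helper62.BG1212.exists_invariant_cyclic hS.isPGroup hSc hKS hKp hX hKX hu hmax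
      hXu)

end Cfsg.Agent.Lib.Helper39B.BG1212
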