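import Cfsg.Agent.Lib.Helper39.YoshidaBad
import Cfsg.Agent.Lib.Helper40.FusTransfer1

/-!
# The transfer core for saturated fusion systems
-/

set_option autoImplicit false

namespace Cfsg.Agent.Lib.Helper39

open Cfsg Cfsg.FusionSystem Cfsg.Agent.Lib.Helper87 Cfsg.Agent.Lib.Helper90
  Cfsg.Agent.Lib.Helper90.Biset Cfsg.Agent.Lib.Helper40

universe u

theorem fusion_transfer_core {Ω : Type u} [Group Ω] {S : Subgroup Ω} [Finite S] {p : ℕ}
    [Fact p.Prime] (hS : IsPGroup p S) (F : FusionSystem S) (hF : F.IsSaturated p)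
    (T : Subgroup Ω) (hTF : T ≤ F.focalSubgroup) (hcomm : ⁅S, S⁆ ≤ T)
    (hgb : ∀ (Q : Subgroup ↥S) (b : Ω → Ω), Mor F (Q.map S.subtype) b →
      (∀ r ∈ Q, (r : Ω)⁻¹ * b r ∈ T) ∨
      (Q ≠ ⊤ ∧ ∀ (A : Type u) [CommGroup A] [Finite A] (ϕ : Q →* A), (∀ a : A, a ^ p = 1) →
        ∀ x : ↥S, KillH p ϕ x → MonoidHom.transfer ϕ x = 1)) :
    F.focalSubgroup = T := by
  classical
  have : Fintype (Subgroup (↥S × ↥S)) := Fintype.ofFinite _
  obtain ⟨c, hc, hdeg, hst⟩ := exists_biset hS F hF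
  have key := transfer_core hS (fun D : Subgroup (↥S × ↥S) => Qf D) (fun D => phi D) c
    (fun D hD r hr r' hr' => (hc D hD).phi_mul hr hr')
    (F.focalSubgroup.subgroupOf S) (T.subgroupOf S)
    (fun x hx => hTF hx)
    (commutator_le_subgroupOf hcomm)
    (by
      intro D hD r hr
      obtain ⟨b, hb, hb'⟩ := (hc D hD).exists_mor
      rw [Subgroup.mem_subgroupOf]
      have := FT.mem_focal hb (x := (r : Ω)) ⟨r, hr, rfl⟩
      rw [hb' r hr] at this
      exact this)
    hdeg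
    (by
      intro A _ _ lab x hx
      obtain ⟨τ, hτ⟩ := Cyc.exists_hom_cyc (fun D : Subgroup (↥S × ↥S) => Qf D)
        (fun D => lab ∘ phi D) c (by
          intro D hD r hr r' hr'
          show lab (phi D (r * r')) = lab (phi D r) * lab (phi D r')
          rw [(hc D hD).phi_mul hr hr', map_mul])
      have hstab : ∀ (y y' : ↥S) (V : Subgroup Ω) (ϑ : Ω → Ω), Mor F V ϑ → (y : Ω) ∈ V →
          ϑ y = y' → τ y = τ y' := by
        intro y y' V ϑ hϑ hy hyy'
        rw [hτ, hτ]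
        exact stab c hc hst lab ⊤ (fun _ _ _ _ _ => Subgroup.mem_top _)
          (fun h _ h' _ => map_mul lab h h')
          (fun h _ v => by rw [map_mul, map_mul, map_inv, mul_comm, inv_mul_cancel_left])
          y y' (Subgroup.mem_top _) (Subgroup.mem_top _) hϑ hy hyy'
      have hfk : F.focalSubgroup ≤ τ.ker.map S.subtype := by
        unfold FusionSystem.focalSubgroup
        rw [Subgroup.closure_le]
        rintro _ ⟨P, φ, y, hφ, rfl⟩
        have hyS : (y : Ω) ∈ S := (F.le_of_mem hφ).1 y.2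
        have hyS' : φ y ∈ S := (F.le_of_mem hφ).2 y
        refine ⟨(⟨y, hyS⟩ : ↥S)⁻¹ * ⟨φ y, hyS'⟩, ?_, rfl⟩
        show τ _ = 1
        rw [map_mul, map_inv,
          hstab ⟨y, hyS⟩ ⟨φ y, hyS'⟩ P (ext φ) (Mor.of_hom hφ) y.2 (ext_coe φ y), inv_mul_cancel]
      obtain ⟨x', hx', hxx'⟩ := hfk hx
      have : x' = x := Subtype.ext hxx'
      rw [← hτ, ← this]
      exact hx')
    (by
      intro D hD
      obtain ⟨b, hb, hb'⟩ := (hc D hD).exists_mor
      rcases hgb (Qf D) b hb with h | h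
      · left
        intro r hr
        rw [Subgroup.mem_subgroupOf]
        have := h r hr
        rw [hb' r hr] at this
        exact this
      · right
        exact h)
  apply le_antisymm _ hTF
  intro x hx
  have hxS : x ∈ S := FT.focal_le F hx
  have h1 : (⟨x, hxS⟩ : ↥S) ∈ F.focalSubgroup.subgroupOf S := hx
  rw [key] at h1
  exact h1

end Cfsg.Agent.Lib.Helper39
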