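import Cfsg.Agent.Lib.Helper53.JC2Asm
import Cfsg.Agent.Lib.Helper53.SA2Defs
import Cfsg.Agent.S2943
import Cfsg.Agent.S2946

set_option autoImplicit false

/-! Ladder JC3 (helper53, statement S2954), rung CK. -/

namespace Cfsg.Agent.Lib.Helper39B.JC3

open Cfsg Subgroup
open scoped commutatorElement
open Cfsg.Agent.Lib.Helper53 Cfsg.Agent.Lib.Helper53.JC Cfsg.Agent.Lib.Helper53.JC2

variable {G : Type*} [Group G]

/-- in a group of order three two non-identity elements are equal or inverse. -/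
theorem eq_or_eq_inv_of_card_three {Q : Type*} [Group Q] (h3 : Nat.card Q = 3) {a b : Q}
    (ha : a ≠ 1) (hb : b ≠ 1) : b = a ∨ b = a⁻¹ := by
  have : Fact (Nat.Prime 3) := ⟨by norm_num⟩
  have hmem : b ∈ zpowers a := mem_zpowers_of_prime_card h3 ha
  have ho : orderOf a = 3 := orderOf_eq_prime (by rw [← h3]; exact pow_card_eq_one') ha
  obtain ⟨i, rfl⟩ := mem_zpowers_iff.mp hmem
  rw [← zpow_mod_orderOf, ho] at hb ⊢
  have h1 : 0 ≤ i % 3 := Int.emod_nonneg _ (by norm_num)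
  have h2 : i % 3 < 3 := Int.emod_lt_of_pos _ (by norm_num)
  have h3' : a ^ (3 : ℕ) = 1 := by rw [← ho]; exact pow_orderOf_eq_one a
  obtain h | h | h : i % 3 = 0 ∨ i % 3 = 1 ∨ i % 3 = 2 := by omega
  · rw [Nat.cast_ofNat, h, zpow_zero] at hb; exact absurd rfl hb
  · left; rw [Nat.cast_ofNat, h, zpow_one]
  · right
    rw [Nat.cast_ofNat, h]
    apply eq_inv_of_mul_eq_one_left
    calc a ^ (2 : ℤ) * a = a ^ (3 : ℕ) := by
          rw [show (2 : ℤ) = ((2 : ℕ) : ℤ) by norm_num, zpow_natCast, ← pow_succ]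
      _ = 1 := h3'

/-- the square of an element normalizing `K ≥ N`, `|K : N| = 3`, centralizes `K / N`. -/
theorem sq_mem_CM {N K : Subgroup G} (hNK : N ≤ K) (hn : K ≤ normalizer (N : Set G))
    (h3 : N.relIndex K = 3) {s : G} (hsK : s ∈ normalizer (K : Set G))
    (hsN : s ∈ normalizer (N : Set G)) : s * s ∈ CM K N := by
  refine ⟨mul_mem hsN hsN, fun k hk => ?_⟩
  have hcN : ∀ n ∈ N, s * n * s⁻¹ ∈ N := fun n hn' => (mem_normalizer_iff.1 hsN n).1 hn'
  have hkN : ∀ n ∈ N, k * n * k⁻¹ ∈ N := fun n hn' => (mem_normalizer_iff.1 (hn hk) n).1 hn'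
  have hk' : s * k * s⁻¹ ∈ K := (mem_normalizer_iff.1 hsK k).1 hk
  by_cases hkn : k ∈ N
  · have h1 : ⁅k, s * s⁆ = k * (s * (s * k⁻¹ * s⁻¹) * s⁻¹) := by
      simp only [commutatorElement_def]; group
    rw [h1]
    exact N.mul_mem hkn (hcN _ (hcN _ (N.inv_mem hkn)))
  · have hk'n : s * k * s⁻¹ ∉ N := by
      intro h
      apply hkn
      have := (mem_normalizer_iff.1 (inv_mem hsN) _).1 h
      simpa [mul_assoc] using this
    have hnorm : (N.subgroupOf K).Normal := (normal_subgroupOf_iff_le_normalizer hNK).2 hn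
    have hc3 : Nat.card (K ⧸ N.subgroupOf K) = 3 := h3
    have ha : (QuotientGroup.mk (⟨k, hk⟩ : K) : K ⧸ N.subgroupOf K) ≠ 1 := by
      intro h
      rw [QuotientGroup.eq_one_iff] at h
      exact hkn h
    have hb : (QuotientGroup.mk (⟨s * k * s⁻¹, hk'⟩ : K) : K ⧸ N.subgroupOf K) ≠ 1 := by
      intro h
      rw [QuotientGroup.eq_one_iff] at h
      exact hk'n h
    rcases eq_or_eq_inv_of_card_three hc3 ha hb with h | h
    · have h1 : k⁻¹ * (s * k * s⁻¹) ∈ N := by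
        have := QuotientGroup.eq.1 h.symm
        exact this
      have h2 : ⁅k, s * s⁆ = k * ((s * (k⁻¹ * (s * k * s⁻¹))⁻¹ * s⁻¹) *
          (k⁻¹ * (s * k * s⁻¹))⁻¹) * k⁻¹ := by
        simp only [commutatorElement_def]; group
      rw [h2]
      exact hkN _ (N.mul_mem (hcN _ (N.inv_mem h1)) (N.inv_mem h1))
    · have h1 : k * (s * k * s⁻¹) ∈ N := by
        rw [← QuotientGroup.mk_inv] at h
        have := QuotientGroup.eq.1 h.symm
        rw [inv_inv] at this
        exact this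
      have h2 : ⁅k, s * s⁆ = (k * (s * (k * (s * k * s⁻¹))⁻¹ * s⁻¹) * k⁻¹) *
          (k * (s * k * s⁻¹)) := by
        simp only [commutatorElement_def]; group
      rw [h2]
      exact N.mul_mem (hkN _ (hcN _ (N.inv_mem h1))) h1

/-- the subgroup generated by the squares. -/
def sqs (S : Subgroup G) : Subgroup G := closure {g : G | ∃ s ∈ S, g = s * s}

theorem sqs_le (S : Subgroup G) : sqs S ≤ S :=
  (closure_le _).2 (by rintro _ ⟨s, hs, rfl⟩; exact S.mul_mem hs hs)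

theorem comm_mem_sqs {S : Subgroup G} {s t : G} (hs : s ∈ S) (ht : t ∈ S) : ⁅s, t⁆ ∈ sqs S := by
  have h : ⁅s, t⁆ = ((s * t) * (s * t)) * ((t⁻¹ * s⁻¹ * t) * (t⁻¹ * s⁻¹ * t)) * (t⁻¹ * t⁻¹) := by
    simp only [commutatorElement_def]; group
  rw [h]
  refine mul_mem (mul_mem ?_ ?_) ?_
  · exact Subgroup.subset_closure ⟨_, S.mul_mem hs ht, rfl⟩
  · exact Subgroup.subset_closure ⟨_, S.mul_mem (S.mul_mem (S.inv_mem ht) (S.inv_mem hs)) ht, rfl⟩
  · exact Subgroup.subset_closure ⟨_, S.inv_mem ht, rfl⟩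

theorem le_normalizer_sqs [Finite G] (S : Subgroup G) : S ≤ normalizer (sqs S : Set G) := by
  intro g hg
  rw [← cj_eq_self_iff]
  apply cj_eq_of_le
  unfold sqs
  rw [MonoidHom.map_closure, closure_le]
  rintro _ ⟨_, ⟨s, hs, rfl⟩, rfl⟩
  apply Subgroup.subset_closure
  refine ⟨g * s * g⁻¹, S.mul_mem (S.mul_mem hg hs) (S.inv_mem hg), ?_⟩
  simp [MulAut.conj_apply, mul_assoc]

variable [Finite G]

theorem ck (zn : ZN G) (S : Sylow 2 G)
    (hNJ : normalizer (JJ (S : Subgroup G) : Set G) ≤ normalizer ((S : Subgroup G) : Set G))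
    (hZ0 : omegaCenterOf (JJ (S : Subgroup G)) = omegaCenterOf (S : Subgroup G))
    {Ls X Q : Subgroup G} (hLs : IsTwoLocal Ls) (hS : (S : Subgroup G) ≤ Ls) (hX : X ≤ Ls)
    (hQS : Q ≤ (S : Subgroup G)) (hQX : Q ≤ X) (hDQ : pCoreOf 2 X ≤ Q)
    (hgen : X ≤ ⨆ g : X, cjj (g : G) Q) {x : G} (hx : x ∈ (S : Subgroup G))
    (hQD : Q ≤ pCoreOf 2 X ⊔ cjj x (pCoreOf 2 X)) : Q ≤ pCoreOf 2 X := by
  have hchar := Cfsg.Agent.Lib.Helper56.JC.twoLocal_char zn.hL hLs
  have hsyl' : IsSyl 2 (S : Subgroup G) Ls := (isSyl_top_of_sylow S).of_le hS le_top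
  have hsyl : IsSylowTwoIn (S : Subgroup G) Ls := isSylowTwoIn_iff.2 hsyl'
  by_cases hJ : JJ (S : Subgroup G) ≤ pCoreOf 2 Ls
  · -- `S` is normal in `Ls`
    have h1 : JJ (pCoreOf 2 Ls) = JJ (S : Subgroup G) :=
      Cfsg.Agent.Lib.Helper55.thompsonSubgroupOf_eq_of_le hJ (pCoreOf_le_isSyl hsyl')
    have h2 : Ls ≤ normalizer (JJ (S : Subgroup G) : Set G) := by
      rw [← h1]
      exact (le_normalizer_pCoreOf 2 Ls).trans (normalizer_le_normalizer_JJ _)
    have h3 : X ≤ normalizer ((S : Subgroup G) : Set G) := hX.trans (h2.trans hNJ)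
    have h4 : (S : Subgroup G) ⊓ X ≤ pCoreOf 2 X :=
      le_pCoreOf inf_le_right (le_normalizer_inf h3 le_normalizer) (S.2.to_le inf_le_left)
    exact (le_inf hQS hQX).trans h4
  · have hLj : Ls ∈ jOvergroups (S : Subgroup G) := ⟨hsyl, hJ, hchar⟩
    have hS1 : (S : Subgroup G) ≠ ⊥ := jOver_ne_bot hLj
    -- the components
    have hSK : ∀ K : Subgroup G, IsJComponent (S : Subgroup G) K → K ≤ Ls →
        (S : Subgroup G) ≤ normalizer (K : Set G) := by
      intro K hK hKL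
      apply Cfsg.Agent.S2943.result zn.hL zn.hN zn.hZ (S : Subgroup G) S.2 hS1 Ls hLj K hK hKL
      intro h
      have h1 := (Cfsg.Agent.S2946.result zn.hL zn.hN zn.hZ (S : Subgroup G) S.2 hS1 K hK _ rfl).1
      have h2 : omegaCenterOf (JJ (S : Subgroup G)) ⊓ wOf K ≤ ⊥ := by
        rw [← h, hZ0]
        exact inf_le_inf_right _ (le_inf (omegaCenterOf_le _) (omegaCenterOf_le_centralizer _))
      rw [le_bot_iff] at h2
      change Nat.card ↥(omegaCenterOf (JJ (S : Subgroup G)) ⊓ wOf K) = 2 at h1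
      rw [h2, card_bot] at h1
      omega
    have hKK : ∀ K K' : Subgroup G, IsJComponent (S : Subgroup G) K → K ≤ Ls →
        IsJComponent (S : Subgroup G) K' → K' ≤ Ls → K' ≤ normalizer (K : Set G) := by
      intro K K' hK hKL hK' hK'L
      exact (jc_le_HHL hLj hK' hK'L).trans (zn_st2 zn (S : Subgroup G) Ls K S.2 hLj hK hKL)
    set E : Subgroup G := ⨆ K : {K : Subgroup G // IsJComponent (S : Subgroup G) K ∧ K ≤ Ls},
      (K : Subgroup G) with hE
    have hKE : ∀ K : Subgroup G, IsJComponent (S : Subgroup G) K → K ≤ Ls → K ≤ E :=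
      fun K hK hKL => le_iSup (fun K : {K : Subgroup G // IsJComponent (S : Subgroup G) K ∧ K ≤ Ls}
        => (K : Subgroup G)) ⟨K, hK, hKL⟩
    have hELs : E ≤ Ls := iSup_le fun K => K.2.2
    have hLE : Ls ≤ normalizer (E : Set G) := by
      intro l hl
      rw [← cj_eq_self_iff]
      apply cj_eq_of_le
      rw [hE, Subgroup.map_iSup]
      apply iSup_le
      intro K
      exact hKE _ (zn_st4 zn (S : Subgroup G) Ls K.1 S.2 hLj K.2.1 K.2.2 l hl)
        (cj_le_of_le_of_mem K.2.2 hl)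
    set N1 : Subgroup G := E ⊔ (S : Subgroup G) with hN1
    have hN1K : ∀ K : Subgroup G, IsJComponent (S : Subgroup G) K → K ≤ Ls →
        N1 ≤ normalizer (K : Set G) := by
      intro K hK hKL
      exact sup_le (iSup_le fun K' => hKK K K'.1 hK hKL K'.2.1 K'.2.2) (hSK K hK hKL)
    -- `Ls` normalizes `N1`
    have hLN1 : Ls ≤ normalizer (N1 : Set G) := by
      have h1 : Ls ≤ E ⊔ (Ls ⊓ normalizer ((S : Subgroup G) : Set G)) :=
        Cfsg.Agent.Lib.Helper69.JC.st5 (zn_core1 zn) (zn_ffa zn) (S : Subgroup G) Ls _ S.2 hLj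
          (fun K hK hKL => (hKE K hK hKL).trans le_sup_left)
          ((le_inf inf_le_left (inf_le_right.trans hNJ)).trans le_sup_right)
          ((le_inf inf_le_left (inf_le_right.trans (zn.hZ S))).trans le_sup_right)
      refine h1.trans (sup_le ((le_sup_left : E ≤ N1).trans le_normalizer) ?_)
      exact le_normalizer_sup (inf_le_left.trans hLE) inf_le_right
    have hXN1 : X ≤ N1 := by
      refine hgen.trans (iSup_le fun g => ?_)
      have h1 : cjj (g : G) N1 = N1 := cj_eq_self_iff.2 (hLN1 (hX g.2))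
      rw [← h1]
      exact cj_mono _ (hQS.trans le_sup_right)
    -- `[S, S] ≤ O₂(N1)`
    have hSN1 : (S : Subgroup G) ≤ N1 := le_sup_right
    have hN1R := le_normalizer_pCoreOf 2 N1
    have hOK : ∀ K : Subgroup G, IsJComponent (S : Subgroup G) K → K ≤ Ls →
        pCoreOf 2 K ≤ pCoreOf 2 N1 := by
      intro K hK hKL
      exact le_pCoreOf ((pCoreOf_le 2 K).trans ((hKE K hK hKL).trans le_sup_left))
        ((hN1K K hK hKL).trans (normalizer_le_normalizer_pCoreOf 2 K)) (pCoreOf_isPGroup 2 K)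
    have hCK : ∀ K : Subgroup G, IsJComponent (S : Subgroup G) K → K ≤ Ls →
        ⁅K, sqs (S : Subgroup G)⁆ ≤ pCoreOf 2 K := by
      intro K hK hKL
      refine (le_CM_iff.1 ?_).2
      unfold sqs
      rw [closure_le]
      rintro _ ⟨s, hs, rfl⟩
      exact sq_mem_CM (pCoreOf_le 2 K) (le_normalizer_pCoreOf 2 K) hK.2.2.1 (hSK K hK hKL hs)
        (normalizer_le_normalizer_pCoreOf 2 K (hSK K hK hKL hs))
    have hY2 : IsPGroup 2 ↥(sqs (S : Subgroup G) ⊔ pCoreOf 2 N1) :=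
      (S.2.to_le (sqs_le _)).to_sup_of_normal_right' (pCoreOf_isPGroup 2 N1)
        (((sqs_le _).trans hSN1).trans hN1R)
    have hYn : N1 ≤ normalizer ((sqs (S : Subgroup G) ⊔ pCoreOf 2 N1 : Subgroup G) : Set G) := by
      refine sup_le (iSup_le fun K => ?_) ?_
      · apply le_normalizer_sup_of_commutator_le (((hKE K.1 K.2.1 K.2.2).trans le_sup_left).trans hN1R)
        rw [Subgroup.commutator_comm]
        exact (hCK K.1 K.2.1 K.2.2).trans (hOK K.1 K.2.1 K.2.2)
      · exact le_normalizer_sup (le_normalizer_sqs _) (hSN1.trans hN1R)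
    have hCR : sqs (S : Subgroup G) ≤ pCoreOf 2 N1 :=
      le_sup_left.trans (le_pCoreOf (sup_le ((sqs_le _).trans hSN1) (pCoreOf_le 2 N1)) hYn hY2)
    -- conclusion
    have hDR2 : IsPGroup 2 ↥(pCoreOf 2 X ⊔ pCoreOf 2 N1) :=
      (pCoreOf_isPGroup 2 X).to_sup_of_normal_right' (pCoreOf_isPGroup 2 N1)
        (((pCoreOf_le 2 X).trans hXN1).trans hN1R)
    have h1 : cjj x (pCoreOf 2 X) ≤ pCoreOf 2 X ⊔ pCoreOf 2 N1 := by
      rintro _ ⟨d, hd, rfl⟩
      have h2 : (MulAut.conj x).toMonoidHom d = ⁅x, d⁆ * d := by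
        show x * d * x⁻¹ = _
        simp only [commutatorElement_def]; group
      rw [h2]
      exact mul_mem (mem_sup_right (hCR (comm_mem_sqs hx (hQS (hDQ hd))))) (mem_sup_left hd)
    have h2 : Q ≤ (pCoreOf 2 X ⊔ pCoreOf 2 N1) ⊓ X := le_inf (hQD.trans (sup_le le_sup_left h1)) hQX
    refine h2.trans (le_pCoreOf inf_le_right ?_ (hDR2.to_le inf_le_left))
    exact le_normalizer_inf (le_normalizer_sup (le_normalizer_pCoreOf 2 X) (hXN1.trans hN1R))
      le_normalizer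

end Cfsg.Agent.Lib.Helper39B.JC3
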