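import Cfsg.Agent.Lib.Helper39.NormalCtl2
import Cfsg.Agent.Lib.Helper40.IsSec
import Cfsg.Agent.Lib.Helper57.Qd2

set_option autoImplicit false

namespace Cfsg.Agent.Lib.Helper39

open Cfsg Cfsg.Agent.Lib.Helper40

/-- no `p`-local automizer `N(Q)/C(Q)` involves `SL₂(p)` -/
def LF (p : ℕ) (X : Type*) [Group X] : Prop :=
  ∀ Q : Subgroup X, IsPGroup p ↥Q → ¬ ∃ (H K : Subgroup X) (_ : (K.subgroupOf H).Normal),
      Subgroup.centralizer (Q : Set X) ≤ K ∧ K ≤ H ∧ H ≤ Subgroup.normalizer (Q : Set X) ∧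
      Nonempty ((↥H ⧸ K.subgroupOf H) ≃* Matrix.SpecialLinearGroup (Fin 2) (ZMod p))

theorem exists_section_of_hom {X : Type*} [Group X] {S : Type*} [Group S] (A C : Subgroup X)
    (hAC : A ≤ Subgroup.normalizer (C : Set X)) (ψ : ↥A →* S) (hψ : Function.Surjective ψ)
    (hker : ∀ a : ↥A, (a : X) ∈ C → ψ a = 1) :
    ∃ (K : Subgroup X) (_ : (K.subgroupOf (A ⊔ C)).Normal), C ≤ K ∧ K ≤ A ⊔ C ∧
      Nonempty ((↥(A ⊔ C) ⧸ K.subgroupOf (A ⊔ C)) ≃* S) := by
  have h1 : (C.subgroupOf A).Normal := Subgroup.normal_subgroupOf_of_le_normalizer hAC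
  have h2 : (C.subgroupOf (A ⊔ C)).Normal := Subgroup.normal_subgroupOf_sup_of_le_normalizer hAC
  let e := QuotientGroup.quotientInfEquivProdNormalizerQuotient A C hAC
  let l : ↥A ⧸ C.subgroupOf A →* S := QuotientGroup.lift (C.subgroupOf A) ψ (fun a ha => hker a ha)
  have hl : Function.Surjective l := by
    intro s
    obtain ⟨a, rfl⟩ := hψ s
    exact ⟨QuotientGroup.mk a, rfl⟩
  let Ψ : ↥(A ⊔ C) →* S := (l.comp e.symm.toMonoidHom).comp (QuotientGroup.mk' (C.subgroupOf (A ⊔ C)))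
  have hΨ : Function.Surjective Ψ :=
    (hl.comp e.symm.surjective).comp (QuotientGroup.mk'_surjective _)
  have hk : (Ψ.ker.map (A ⊔ C).subtype).subgroupOf (A ⊔ C) = Ψ.ker :=
    Subgroup.comap_map_eq_self_of_injective (A ⊔ C).subtype_injective _
  have hkn : ((Ψ.ker.map (A ⊔ C).subtype).subgroupOf (A ⊔ C)).Normal := by
    rw [hk]; infer_instance
  refine ⟨Ψ.ker.map (A ⊔ C).subtype, hkn, ?_, Subgroup.map_subtype_le _, ⟨?_⟩⟩
  · intro c hc
    refine ⟨⟨c, (le_sup_right : C ≤ A ⊔ C) hc⟩, ?_, rfl⟩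
    show Ψ _ = 1
    have : QuotientGroup.mk' (C.subgroupOf (A ⊔ C)) ⟨c, (le_sup_right : C ≤ A ⊔ C) hc⟩ = 1 :=
      (QuotientGroup.eq_one_iff _).mpr hc
    show l (e.symm (QuotientGroup.mk' (C.subgroupOf (A ⊔ C)) _)) = 1
    rw [this, map_one, map_one]
  · exact (QuotientGroup.quotientMulEquivOfEq hk).trans
      (QuotientGroup.quotientKerEquivOfSurjective Ψ hΨ)

theorem LF.contra {p : ℕ} {X : Type*} [Group X] (h : LF p X) (Q : Subgroup X) (hQ : IsPGroup p Q)
    (A : Subgroup X) (hA : A ≤ Subgroup.normalizer (Q : Set X))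
    (ψ : ↥A →* Matrix.SpecialLinearGroup (Fin 2) (ZMod p)) (hψ : Function.Surjective ψ)
    (hker : ∀ a : ↥A, (a : X) ∈ Subgroup.centralizer (Q : Set X) → ψ a = 1) : False := by
  obtain ⟨K, hK, h1, h2, h3⟩ := exists_section_of_hom A (Subgroup.centralizer (Q : Set X))
    (hA.trans (normalizer_le_normalizer_centralizer Q)) ψ hψ hker
  exact h Q hQ ⟨_, K, hK, h1, h2, sup_le hA (Subgroup.centralizer_le_normalizer _), h3⟩

theorem LF.subgroup {p : ℕ} {X : Type*} [Group X] (h : LF p X) (L : Subgroup X) : LF p ↥L := by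
  rintro Q hQ ⟨H, K, hK, h1, h2, h3, ⟨e⟩⟩
  let ε : ↥H ≃* ↥(H.map L.subtype) := H.equivMapOfInjective L.subtype L.subtype_injective
  have hε : ∀ a : ↥(H.map L.subtype), ((ε.symm a : ↥H) : ↥L).1 = a.1 := by
    intro a
    have := Subgroup.coe_equivMapOfInjective_apply H L.subtype L.subtype_injective (ε.symm a)
    rw [show H.equivMapOfInjective L.subtype L.subtype_injective (ε.symm a) = a from
      ε.apply_symm_apply a] at this
    exact this.symm
  refine h.contra (Q.map L.subtype) (hQ.map _) (H.map L.subtype) ?_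
    ((e.toMonoidHom.comp (QuotientGroup.mk' (K.subgroupOf H))).comp ε.symm.toMonoidHom)
    ((e.surjective.comp (QuotientGroup.mk'_surjective _)).comp ε.symm.surjective) ?_
  · exact (Subgroup.map_mono h3).trans (Subgroup.le_normalizer_map _)
  · intro a ha
    have h4 : ((ε.symm a : ↥H) : ↥L) ∈ Subgroup.centralizer (Q : Set ↥L) := by
      rw [Subgroup.mem_centralizer_iff] at ha ⊢
      intro q hq
      apply Subtype.ext
      have := ha q.1 ⟨q, hq, rfl⟩
      simp only [Subgroup.coe_mul, hε]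
      exact this
    show e (QuotientGroup.mk' (K.subgroupOf H) (ε.symm a)) = 1
    have : QuotientGroup.mk' (K.subgroupOf H) (ε.symm a) = 1 :=
      (QuotientGroup.eq_one_iff _).mpr (h1 h4)
    rw [this, map_one]

theorem LF.quotient {p : ℕ} [Fact p.Prime] {L Y : Type*} [Group L] [Finite L] [Group Y]
    (h : LF p L) (f : L →* Y) (hf : Function.Surjective f) : LF p Y := by
  rintro Q hQ ⟨H, K, hK, h1, h2, h3, ⟨e⟩⟩
  set E := (Subgroup.normalizer (Q : Set Y)).comap f with hE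
  set T1 := Q.comap f with hT1
  have hT1E : T1 ≤ E := Subgroup.comap_mono Subgroup.le_normalizer
  have hET1 : E ≤ Subgroup.normalizer (T1 : Set L) := Subgroup.le_normalizer_comap f
  obtain ⟨PE, -, hPE, hPEp, hPEidx⟩ := exists_sylow_rel (p := p) (N := E) (Q := ⊥) bot_le
    IsPGroup.of_bot
  set Q1 := PE ⊓ T1 with hQ1
  have hQ1p : IsPGroup p Q1 := hPEp.to_le inf_le_left
  have hQ1idx : ¬ p ∣ Q1.relIndex T1 := inf_normal_sylow hPE hPEp hPEidx hT1E hET1
  have hkerT1 : f.ker ≤ T1 := by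
    intro x hx
    show f x ∈ Q
    rw [MonoidHom.mem_ker.mp hx]; exact Q.one_mem
  have hkn : ∀ H' : Subgroup L, H' ≤ Subgroup.normalizer ((f.ker : Subgroup L) : Set L) := by
    intro H'
    rw [Subgroup.normalizer_eq_top]; exact le_top
  have hT1le : T1 ≤ Q1 ⊔ f.ker := by
    apply le_sup_of_pmod hkerT1 (hkn _) hQ1idx
    intro γ hγ
    obtain ⟨k, hk⟩ := hQ ⟨f γ, hγ⟩
    refine ⟨k, ?_⟩
    rw [MonoidHom.mem_ker, map_pow]
    have := congrArg Subtype.val hk
    simpa using this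
  have hfQ1 : ∀ y ∈ Q, ∃ q ∈ Q1, f q = y := by
    intro y hy
    obtain ⟨t, rfl⟩ := hf y
    obtain ⟨q, hq, k, hk, rfl⟩ := mem_sup_of_le_normalizer (hkn _) (hT1le hy)
    exact ⟨q, hq, by rw [map_mul, MonoidHom.mem_ker.mp hk, mul_one]⟩
  set A := H.comap f ⊓ Subgroup.normalizer (Q1 : Set L) with hA
  have hfA : ∀ y ∈ H, ∃ a ∈ A, f a = y := by
    intro y hy
    obtain ⟨x, rfl⟩ := hf y
    have hxE : x ∈ E := h3 hy
    obtain ⟨d, hd, hdx⟩ := frattini_rel hPE hPEp hPEidx hT1E hET1 x hxE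
    obtain ⟨q, hq, k, hk, rfl⟩ := mem_sup_of_le_normalizer (hkn _) (hT1le hd)
    have hk1 : f k = 1 := MonoidHom.mem_ker.mp hk
    refine ⟨k * x, ⟨?_, ?_⟩, by rw [map_mul, hk1, one_mul]⟩
    · show f (k * x) ∈ H
      rw [map_mul, hk1, one_mul]; exact hy
    · have e1 : k * x = q⁻¹ * (q * k * x) := by group
      rw [e1]
      exact Subgroup.mul_mem _ (Subgroup.inv_mem _ (Subgroup.le_normalizer hq)) hdx
  let fA : ↥A →* ↥H := (f.comp A.subtype).codRestrict H (fun a => a.2.1)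
  have hfAs : Function.Surjective fA := by
    rintro ⟨y, hy⟩
    obtain ⟨a, ha, rfl⟩ := hfA y hy
    exact ⟨⟨a, ha⟩, rfl⟩
  refine h.contra Q1 hQ1p A inf_le_right
    ((e.toMonoidHom.comp (QuotientGroup.mk' (K.subgroupOf H))).comp fA)
    ((e.surjective.comp (QuotientGroup.mk'_surjective _)).comp hfAs) ?_
  intro a ha
  have h4 : f a ∈ Subgroup.centralizer (Q : Set Y) := by
    rw [Subgroup.mem_centralizer_iff] at ha ⊢
    intro y hy
    obtain ⟨q, hq, rfl⟩ := hfQ1 y hy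
    rw [← map_mul, ← map_mul, ha q hq]
  show e (QuotientGroup.mk' (K.subgroupOf H) (fA a)) = 1
  have : QuotientGroup.mk' (K.subgroupOf H) (fA a) = 1 :=
    (QuotientGroup.eq_one_iff _).mpr (h1 h4)
  rw [this, map_one]

universe u

theorem LF.of_isSec {p : ℕ} [Fact p.Prime] {G X : Type u} [Group G] [Finite G] [Group X]
    (h : LF p G) (hX : IsSec G X) : LF p X := by
  obtain ⟨K, f, hf⟩ := hX
  exact (h.subgroup K).quotient f hf

end Cfsg.Agent.Lib.Helper39
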