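import Cfsg.Agent.Lib.Helper39.LocFree
import Cfsg.Agent.Lib.Helper68.SFMain
import Cfsg.Agent.Lib.Helper57.FC8

set_option autoImplicit false

namespace Cfsg.Agent.Lib.Helper39

open Cfsg Cfsg.Agent.Lib.Helper40 Cfsg.Agent.Lib.Helper57.Qd
open Matrix

theorem trace_eq_two_of_pow {p : ℕ} [Fact p.Prime] (M : Matrix (Fin 2) (Fin 2) (ZMod p)) (k : ℕ)
    (h : M ^ (p ^ k) = 1) : M.trace = 2 := by
  have key : ∀ k : ℕ, ∀ M : Matrix (Fin 2) (Fin 2) (ZMod p), (M ^ (p ^ k)).trace = M.trace := by
    intro k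
    induction k with
    | zero => intro M; simp
    | succ k ih =>
      intro M
      rw [pow_succ, pow_mul, ZMod.trace_pow_card, ZMod.pow_card, ih]
  rw [← key k M, h]
  simp

theorem sl2_normal_pgroup_eq_bot {p : ℕ} [Fact p.Prime] (O : Subgroup (SL2 p)) [hO : O.Normal]
    (hp : IsPGroup p O) : O = ⊥ := by
  have htr : ∀ z ∈ O, (z.1 : Matrix (Fin 2) (Fin 2) (ZMod p)).trace = 2 := by
    intro z hz
    obtain ⟨k, hk⟩ := hp ⟨z, hz⟩
    have hk' : z ^ p ^ k = 1 := by
      have := congrArg Subtype.val hk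
      simpa using this
    apply trace_eq_two_of_pow _ k
    have := congrArg (fun w : SL2 p => (w.1 : Matrix (Fin 2) (Fin 2) (ZMod p))) hk'
    simpa using this
  rw [eq_bot_iff]
  intro x hx
  rw [Subgroup.mem_bot]
  have h1 := htr x hx
  have hdet := x.det_coe
  rw [Matrix.det_fin_two] at hdet
  rw [Matrix.trace_fin_two] at h1
  have h2 := htr (x * (uu 1 * x * (uu 1)⁻¹)) (O.mul_mem hx (hO.conj_mem x hx _))
  have h3 := htr (x * (ll 1 * x * (ll 1)⁻¹)) (O.mul_mem hx (hO.conj_mem x hx _))
  simp only [Matrix.SpecialLinearGroup.coe_mul, Matrix.SpecialLinearGroup.coe_inv, coe_uu, coe_ll,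
    Matrix.adjugate_fin_two, Matrix.trace_fin_two, Matrix.mul_apply, Fin.sum_univ_two,
    Matrix.of_apply, Matrix.cons_val_zero, Matrix.cons_val_one, Matrix.cons_val', Matrix.cons_val_fin_one] at h2 h3
  set a := x.1 0 0
  set b := x.1 0 1
  set c := x.1 1 0
  set d := x.1 1 1
  have hc : c = 0 := by
    have : c ^ 2 = 0 := by linear_combination (-1 : ZMod p) * h2 + (a + d + 2) * h1 - 2 * hdet
    exact pow_eq_zero_iff (two_ne_zero) |>.mp this
  have hb : b = 0 := by
    have : b ^ 2 = 0 := by linear_combination (-1 : ZMod p) * h3 + (a + d + 2) * h1 - 2 * hdet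
    exact pow_eq_zero_iff (two_ne_zero) |>.mp this
  have ha : a = 1 := by
    have : (a - 1) ^ 2 = 0 := by
      rw [hb, hc] at hdet
      linear_combination a * h1 - hdet
    have := pow_eq_zero_iff (two_ne_zero) |>.mp this
    linear_combination this
  have hd : d = 1 := by linear_combination h1 - ha
  ext i j
  fin_cases i <;> fin_cases j <;> simp <;> assumption

theorem LF.not_involves_sl2 {p : ℕ} [Fact p.Prime] {Y : Type*} [Group Y] [Finite Y] (h : LF p Y)
    (hC : Subgroup.centralizer ((pCore p Y : Subgroup Y) : Set Y) ≤ pCore p Y) :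
    ¬ Involves (SL2 p) Y := by
  rintro ⟨H, K, hK, ⟨e⟩⟩
  have hQn : (pCore p Y).Normal := pCore_normal' p
  have hψs : Function.Surjective (e.toMonoidHom.comp (QuotientGroup.mk' (K.subgroupOf H))) :=
    e.surjective.comp (QuotientGroup.mk'_surjective _)
  refine h.contra (pCore p Y) (pCore_isPGroup' p) H ?_
    (e.toMonoidHom.comp (QuotientGroup.mk' (K.subgroupOf H))) hψs ?_
  · rw [Subgroup.normalizer_eq_top]; exact le_top
  · intro a ha
    have hCn : (Subgroup.centralizer ((pCore p Y : Subgroup Y) : Set Y)).Normal := inferInstance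
    have hn1 : ((Subgroup.centralizer ((pCore p Y : Subgroup Y) : Set Y)).subgroupOf H).Normal :=
      hCn.subgroupOf H
    have hn2 := hn1.map _ hψs
    have hp1 : IsPGroup p ((Subgroup.centralizer ((pCore p Y : Subgroup Y) : Set Y)).subgroupOf H) :=
      ((pCore_isPGroup' p).to_le hC).comap_subtype
    have h0 := sl2_normal_pgroup_eq_bot _ (hp1.map (e.toMonoidHom.comp (QuotientGroup.mk' (K.subgroupOf H))))
    have h1 : (e.toMonoidHom.comp (QuotientGroup.mk' (K.subgroupOf H))) a ∈
        ((Subgroup.centralizer ((pCore p Y : Subgroup Y) : Set Y)).subgroupOf H).map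
          (e.toMonoidHom.comp (QuotientGroup.mk' (K.subgroupOf H))) := ⟨a, ha, rfl⟩
    rw [h0, Subgroup.mem_bot] at h1
    exact h1

theorem involves_sl2_qd (p : ℕ) : Involves (SL2 p) ↥(qd p) := by
  refine involves_of_span (MonoidHom.mk' (blk (p := p)) blk_mul) ?_ (MonoidHom.id _)
    Function.surjective_id
  intro m m' h
  have h1 : qmat (blk m) = qmat (blk m') := congrArg qmat h
  rw [coe_blk, coe_blk] at h1
  ext i j
  have e00 := congrFun (congrFun h1 0) 0
  have e01 := congrFun (congrFun h1 0) 1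
  have e10 := congrFun (congrFun h1 1) 0
  have e11 := congrFun (congrFun h1 1) 1
  fin_cases i <;> fin_cases j
  · simpa using e00
  · simpa using e01
  · simpa using e10
  · simpa using e11

theorem LF.not_involves_qd {p : ℕ} [Fact p.Prime] {Y : Type*} [Group Y] [Finite Y] (h : LF p Y)
    (hC : Subgroup.centralizer ((pCore p Y : Subgroup Y) : Set Y) ≤ pCore p Y) :
    ¬ Involves ↥(qd p) Y := by
  intro h1
  obtain ⟨K, f, hf⟩ := exists_span_of_involves h1
  exact h.not_involves_sl2 hC (involves_trans f hf (involves_sl2_qd p))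

universe u

open Cfsg.Agent.Lib.Helper57.FC in
/-- In a group all of whose `p`-local automizers are `SL₂(p)`-free (`p` odd), the lower K-infinity
subgroup of a Sylow `p`-subgroup controls strong fusion. -/
theorem LF.ctl {p : ℕ} [Fact p.Prime] (hp : p ≠ 2) {X : Type u} [Group X] [Finite X] (h : LF p X)
    (S : Sylow p X) : ∀ B : Subgroup X, B ≤ (S : Subgroup X) → ∀ g : X, cj g B ≤ (S : Subgroup X) →
      ∃ x ∈ Subgroup.normalizer ((inducedFunctor kInfLower (S : Subgroup X) : Subgroup X) : Set X),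
        ∀ a ∈ B, x * a * x⁻¹ = g * a * g⁻¹ := by
  have h𝓦 : ∀ W' ∈ ({kInfLower} : Set (∀ (Q : Type u) [Group Q], Subgroup Q)),
      Cfsg.IsCharPFunctor.{u} p W' := by
    intro W' hW'
    rw [Set.mem_singleton_iff] at hW'
    rw [hW']; exact kInfLower_isCharPFunctor p
  have h1 := sections_master h𝓦 (G := X) (by
    intro Y _ hY hC T B hB g hgB
    have hfin : Finite Y := hY.finite
    have hn := (Cfsg.Agent.Lib.Helper68.kInf_normal_of_free hp
      ((h.of_isSec hY).not_involves_qd hC) hC T).1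
    refine Gen.base ⟨⟨kInfLower, rfl⟩, rfl⟩ ?_ hB hgB
    have : Subgroup.normalizer ((inducedFunctor kInfLower (T : Subgroup Y) : Subgroup Y) : Set Y) = ⊤ :=
      Subgroup.normalizer_eq_top_iff.mpr hn
    change g ∈ Subgroup.normalizer ((inducedFunctor kInfLower (T : Subgroup Y) : Subgroup Y) : Set Y)
    rw [this]; trivial) X (IsSec.refl X) S
  intro B hB g hg
  have h2 : Gen {Subgroup.normalizer ((inducedFunctor kInfLower (S : Subgroup X) : Subgroup X) :
      Set X)} (S : Subgroup X) B g := by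
    refine Gen.trans' le_rfl ?_ (h1 B hB g hg)
    rintro _ ⟨⟨W', hW'⟩, rfl⟩ x hx B hB hxB
    rw [Set.mem_singleton_iff] at hW'
    subst hW'
    exact Gen.base rfl hx hB hxB
  exact h2.exists_of_singleton

end Cfsg.Agent.Lib.Helper39
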